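import Cfsg.Agent.TwoF.XS.P2.Inv
import Cfsg.Agent.Mrg.Omega.TwoF.RowPsl
import Cfsg.Agent.S2092
import Cfsg.Agent.S2234

/-!
# TwoF / XS / P2: the generic rows, inner parts, `PSp₄(5)` (helper85)
-/

set_option autoImplicit false

namespace Cfsg.Agent.TwoF.XS.P2

open Module Gen Subgroup XE
open Cfsg.Agent.ClassicalGeometry.SympBasic Cfsg.Agent.ClassicalGeometry.SympSiegel
  Cfsg.Agent.ClassicalGeometry.SympAutExists Cfsg.Agent.ClassicalGeometry.SympAutSemi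
  Cfsg.Agent.ClassicalGeometry.SympGamma
open Cfsg.Agent.Omega.TwoF

variable {F : Type} [Field F] [Fintype F] {m : ℕ}

local notation "W" => (Fin m ⊕ Fin m → F)
local notation "G" => Matrix.symplecticGroup (Fin m) F
local notation "f" => sympForm m F

theorem zc (hm : 2 ≤ m) (hq : 3 ≤ Fintype.card F) : Zc 2 (PSp m F) 1 := fun K _ _ π h1 h2 => by
  have h3 := card_ker_dvd' (S2092.result rfl m hm (fun _ => hq) (by omega)) K π h1
  rcases (Nat.dvd_prime Nat.prime_two).1 (h3.trans (Nat.gcd_dvd_left _ _)) with h4 | h4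
  · rw [h4]
  · exact (h2 (by rw [h4])).elim

omit [Fintype F] in
theorem le_rank {E : Subgroup (MulAut (PSp m F))} (hE : IsElementaryAbelian 2 E) {a j : ℕ}
    (h : RkPSL.RkAut (PSp m F) a) (hj : Nat.card E = 2 ^ j) : j ≤ a :=
  (Nat.pow_le_pow_iff_right one_lt_two).1 (hj ▸ h E fun x hx => (pow_two x).symm.trans (hE.2 x hx))

theorem aut_eq {r : ℕ} (hr : r.Prime) (h : Fintype.card F = r) (σ : F ≃+* F) (a : F) : σ a = a := by
  obtain ⟨x, rfl⟩ := (ZMod.ringEquivOfPrime F hr h).surjective a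
  exact RingHom.congr_fun (RingHom.ext_zmod (σ.toRingHom.comp (ZMod.ringEquivOfPrime F hr h).toRingHom)
    (ZMod.ringEquivOfPrime F hr h).toRingHom) x

theorem rk_prime {r : ℕ} (hr : r.Prime) (h : Fintype.card F = r) (h2 : (2 : F) ≠ 0) (hm : 2 ≤ m) :
    RkPSL.RkAut (PSp m F) (RkLin.rk (m + m)) :=
  RkPSp.rkAut_odd h2 hm fun σ _ => RingEquiv.ext (aut_eq hr h σ)

theorem exists_all (h2 : ¬ IsSquare (2 : F)) : ∃ T : Finset F, T.card = Fintype.card F - 1 ∧
    ∀ t ∈ T, ∃ a : F, a ≠ 0 ∧ (t = a ^ 2 ∨ t = 2 * a ^ 2) := by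
  classical
  refine ⟨Finset.univ.erase 0, by rw [Finset.card_erase_of_mem (Finset.mem_univ _), Finset.card_univ], fun t ht => ?_⟩
  have h0 := Finset.ne_of_mem_erase ht
  have h3 : (2 : F) ≠ 0 := fun e => h2 (e ▸ IsSquare.zero)
  by_cases h : IsSquare t
  · obtain ⟨a, rfl⟩ := h
    exact ⟨a, left_ne_zero_of_mul h0, Or.inl (pow_two a).symm⟩
  · obtain ⟨a, ha⟩ := isSquare_mul h2 h
    refine ⟨a / 2, div_ne_zero (left_ne_zero_of_mul (ha ▸ mul_ne_zero h3 h0)) h3, Or.inr ?_⟩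
    field_simp
    linear_combination ha

theorem exists_half : ∃ T : Finset F, Fintype.card F - 1 ≤ 2 * T.card ∧
    ∀ t ∈ T, ∃ a : F, a ≠ 0 ∧ (t = a ^ 2 ∨ t = 2 * a ^ 2) := by
  classical
  refine ⟨(Finset.univ.erase 0).image (· ^ 2), ?_, fun t ht => ?_⟩
  · rw [← Finset.card_univ, ← Finset.card_erase_of_mem (Finset.mem_univ (0 : F))]
    refine Finset.card_le_mul_card_image _ 2 fun t ht => ?_
    obtain ⟨a, -, rfl⟩ := Finset.mem_image.1 ht
    refine (Finset.card_le_card (t := {a, -a}) fun b hb => ?_).trans Finset.card_le_two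
    simpa using sq_eq_sq_iff_eq_or_eq_neg.1 (Finset.mem_filter.1 hb).2
  · obtain ⟨a, ha, rfl⟩ := Finset.mem_image.1 ht
    exact ⟨a, Finset.ne_of_mem_erase ha, Or.inl rfl⟩

variable {r : ℕ} [Fact r.Prime] [CharP F r]

/-- **the generic rows** -/
theorem noOff_gen (hm : 2 ≤ m) (hr : r ≠ 2) {n a : ℕ} (hS : SB m F n) (hrk : RkPSL.RkAut (PSp m F) a) (h4 : 4 ≤ a)
    (hn : 4 * a < n) : NoOff 2 (PSp m F) := noOff_of_lo fun E hE j h0 hj => by
  have h1 := le_rank hE hrk hj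
  by_cases h2 : j ≤ 2
  · obtain ⟨α, hα, h3⟩ := exists_ne_one h0 hj
    exact (le_of_any hm hr hS (by omega) h3 (hE.2 α hα)).lo hα
  · obtain ⟨α, hα, h3, h5⟩ := exists_fix_eight hm (two_ne hr) hE.2
      (hj ▸ lt_of_lt_of_le (by norm_num) (Nat.pow_le_pow_right two_pos (show 3 ≤ j by omega)))
    exact (le_of_fix hm hr hS (by omega) h3 (hE.2 α hα) h5).lo hα

/-- an involution that inverts a transvection group -/
theorem le_of_ZT (hr : r ≠ 2) (hz : Zc 2 (PSp m F) 1) {n c : ℕ} (hZ : ZB m F n) (hc : 2 * (c - 1) < n)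
    {g : semiSim m F} {φ : F ≃+* F} {l a : F} (hl : l ≠ 0) (hg : IsSemi g.1 φ l) (hφ : ∀ x, φ x = x) {e : W}
    (he : e ≠ 0) (hge : g.1 e = a • e) (ha : a ^ 2 = -l) (h2 : Psi m F g ^ 2 = 1) : Le 2 (Psi m F g) c := by
  refine le_of_inverts hz (R := (ZT e).map (prH m F)) ?_ ((Fact.out : r.Prime).odd_of_ne_two hr) ?_ h2 ?_ (hZ e he) hc
  · rintro _ ⟨x, hx, rfl⟩ _ ⟨y, hy, rfl⟩
    rw [← map_mul, comm_ZT e x hx y hy, map_mul]
  · rintro _ ⟨x, hx, rfl⟩
    rw [← map_pow, exp_ZT e x hx, map_one]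
  · rintro _ ⟨_, ⟨t, rfl⟩, rfl⟩
    rw [prH_apply, psi_pr, conjHom_transv g hl hg, hge, transv_smul_vec, hφ, ha, ← pr_inv, transv_inv]
    congr 2
    field_simp

/-- the preimage in the symplectic group -/
def Bt (E : Subgroup (MulAut (PSp m F))) : Subgroup G := E.comap ((MulAut.conj : _ →* _).comp (prH m F))

omit [Fintype F] in
theorem mem_Bt {E : Subgroup (MulAut (PSp m F))} {A : G} : A ∈ Bt E ↔ MulAut.conj (pr A) ∈ E := Iff.rfl

theorem card_Bt (hm : 1 ≤ m) (h2 : (2 : F) ≠ 0) (E : Subgroup (MulAut (PSp m F))) :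
    2 * Nat.card ↥(E ⊓ Inn (PSp m F)) ≤ Nat.card (Bt E) := by
  let ψ := ((MulAut.conj : _ →* MulAut (PSp m F)).comp (prH m F)).comp (Bt E).subtype
  have h1 : ψ.range = E ⊓ Inn (PSp m F) := by
    rw [MonoidHom.range_comp, range_subtype, Bt, map_comap_eq, inf_comm, MonoidHom.range_comp,
      MonoidHom.range_eq_top.2 (show Function.Surjective (prH m F) from pr_surj), ← MonoidHom.range_eq_map]
  rw [← card_mul_index ψ.ker, index_ker, h1]
  refine Nat.mul_le_mul_right _ ((one_lt_card_iff_ne_bot _).2 fun h => ?_)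
  obtain ⟨A, hA⟩ := ClassicalGeometry.SympAutCentral.exists_scal (m := m) (b := (-1 : F)) (by ring)
  have h3 : MulAut.conj (pr A) = 1 := (psi_lf A).symm.trans (psi_eq_one _ hA)
  have h4 : (⟨A, mem_Bt.2 (h3 ▸ one_mem E)⟩ : Bt E) ∈ ψ.ker := h3
  rw [h, mem_bot, Subtype.ext_iff] at h4
  have h5 := hA (ClassicalGeometry.SympAutCentral.E F ⟨0, hm⟩)
  rw [show A = 1 from h4, one_smul, neg_one_smul, ← add_eq_zero_iff_eq_neg, ← two_smul F, smul_eq_zero] at h5
  exact h5.elim h2 (ClassicalGeometry.SympAutCentral.E_ne_zero _)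

omit [Fintype F] in
theorem sq_Bt (hm : 1 ≤ m) {A : G} (h : MulAut.conj (pr A) ^ 2 = 1) :
    A * A = 1 ∨ ∀ v : W, A • A • v = (-1 : F) • v := by
  obtain ⟨c, -, hc⟩ := exists_sq (g := lf A) hm (by rwa [psi_lf])
  have h1 : ∀ v : W, (A * A) • v = c • v := fun v => (mul_smul A A v).trans (hc v)
  rcases mul_self_eq_one_iff.1 (sq_eq_one_of_center hm h1) with rfl | rfl
  · exact Or.inl (ext_smul fun v => by rw [h1, one_smul, one_smul])
  · exact Or.inr hc

theorem card_le_of_sq (hm : 1 ≤ m) (ho : Odd (Fintype.card F)) {B : Subgroup G} (h : ∀ A ∈ B, A * A = 1) :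
    Nat.card B ≤ 2 ^ m :=
  (S2234.result ho m hm).2 B ⟨⟨fun a b => Subtype.ext (by
    have h1 := h _ (mul_mem a.2 b.2)
    have h2 := h _ a.2
    have h3 := h _ b.2
    show (a : G) * b = b * a
    calc (a : G) * b = a * ((a * b) * (a * b)) * b := by rw [h1, mul_one]
      _ = (a * a) * (b * a) * (b * b) := by simp only [mul_assoc]
      _ = b * a := by rw [h2, h3, one_mul, mul_one])⟩⟩ fun A hA => (pow_two A).trans (h A hA)

omit [Fintype F] in
theorem mem_inn {g : semiSim m F} {φ : F ≃+* F} {l : F} (hl : l ≠ 0) (hg : IsSemi g.1 φ l) (hφ : ∀ x, φ x = x)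
    (h : IsSquare l) : Psi m F g ∈ Inn (PSp m F) := by
  obtain ⟨s, rfl⟩ := h
  obtain ⟨A, hA⟩ := exists_sp hg hφ (c := s⁻¹) (by
    have := left_ne_zero_of_mul hl
    field_simp)
  exact ⟨_, (psi_eq_conj g hA).symm⟩

theorem card_le_inn (hm : 2 ≤ m) (h2 : (2 : F) ≠ 0) (hF : ∀ (σ : F ≃+* F) x, σ x = x)
    (E : Subgroup (MulAut (PSp m F))) : Nat.card E ≤ 2 * Nat.card ↥(E ⊓ Inn (PSp m F)) :=
  RkLin.card_le_two_mul fun x hx h1 y hy h3 => by
    obtain ⟨g, rfl⟩ := exists_psi hm h2 x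
    obtain ⟨k, rfl⟩ := exists_psi hm h2 y
    obtain ⟨φ, l, hl, hg⟩ := g.2
    obtain ⟨ψ, l', hl', hk⟩ := k.2
    refine ⟨mul_mem hx hy, ?_⟩
    rw [← map_mul]
    refine mem_inn (g := g * k) (mul_ne_zero hl (by rwa [hF])) (hg.mul hk) (hF _) ?_
    rw [hF]
    exact isSquare_mul (fun h => h1 ⟨hx, mem_inn hl hg (hF _) h⟩) fun h => h3 ⟨hy, mem_inn hl' hk (hF _) h⟩

/-- **`PSp₄(5)`** -/
theorem noOff_five (h : Fintype.card F = 5) : NoOff 2 (PSp 2 F) := by
  have : Fact (Nat.Prime 5) := ⟨by norm_num⟩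
  have : CharP F 5 := charP_of_card_eq_prime h
  have hr : (5 : ℕ) ≠ 2 := by norm_num
  have h2 : (2 : F) ≠ 0 := two_ne hr
  have hz : Zc 2 (PSp 2 F) 1 := zc le_rfl (by omega)
  obtain ⟨T, hT, hT'⟩ := exists_all (F := F) (by rw [FiniteField.isSquare_two_iff, h]; norm_num)
  have hS : SB 2 F 16 := sb one_le_two hr hz T hT' (by rw [hT, h]; norm_num)
  have hZ := zb one_le_two hr hz T hT'
  rw [hT, h] at hZ
  have hs : IsSquare (-1 : F) := by rw [FiniteField.isSquare_neg_one_iff, h]; norm_num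
  refine noOff_of_lo fun E hE j h0 hj => ?_
  have h1 : j ≤ 4 := le_rank hE (rk_prime Fact.out h h2 le_rfl) hj
  by_cases h3 : j = 1
  · obtain ⟨α, hα, h4⟩ := exists_ne_one h0 hj
    exact (le_of_any le_rfl hr hS (by omega) h4 (hE.2 α hα)).lo hα
  by_cases h4 : j ≤ 3
  · obtain ⟨α, hα, h5, h6⟩ := exists_fix_four le_rfl h2 hs hE.2
      (hj ▸ lt_of_lt_of_le (by norm_num) (Nat.pow_le_pow_right two_pos (show 2 ≤ j by omega)))
    exact (le_of_fix le_rfl hr hS (by omega) h5 (hE.2 α hα) h6).lo hα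
  obtain rfl : j = 4 := by omega
  have h5 := card_le_inn le_rfl h2 (aut_eq Fact.out h) E
  have h6 := card_Bt one_le_two h2 E
  obtain ⟨A, hA, h7⟩ : ∃ A ∈ Bt E, A * A ≠ 1 := by
    by_contra h7
    have := card_le_of_sq one_le_two (by rw [h]; norm_num) (B := Bt E) fun A hA => by
      by_contra h8
      exact h7 ⟨A, hA, h8⟩
    omega
  have h8 := (sq_Bt one_le_two (hE.2 _ hA)).resolve_left h7
  obtain ⟨s, hs'⟩ := hs
  obtain ⟨e, he, h9⟩ := exists_eig (g := lf A) (isSemi_rho A) h8 hs'.symm fun h10 => by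
    obtain ⟨c, hc⟩ := exists_scal_of_Psi_eq_one one_le_two _ h10
    have h11 : ∀ v, A • v = (c : F) • v := fun v => congrArg (fun x : Equiv.Perm _ => x v) hc
    exact h7 (ext_smul fun v => by rw [mul_smul, h11, h11, smul_smul, sq_eq_one_of_center one_le_two h11, one_smul,
      one_smul])
  refine (le_of_ZT (g := lf A) hr hz hZ (by norm_num) one_ne_zero (isSemi_rho A) (fun _ => rfl) he h9
    ((pow_two s).trans hs'.symm) (by rw [psi_lf]; exact hE.2 _ hA)).lo ?_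
  rw [psi_lf]
  exact hA

end Cfsg.Agent.TwoF.XS.P2
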