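import Cfsg.Agent.TwoF.XS.Rep
import Cfsg.Agent.TwoF.Gen.BHeis
import Cfsg.Agent.ClassicalGeometry.SympAutExists
import Cfsg.Agent.ClassicalGeometry.SympAutCentral

/-!
# TwoF / XS / P2: the Heisenberg group of a point of a symplectic space of odd characteristic (helper85)
-/

set_option autoImplicit false

namespace Cfsg.Agent.TwoF.XS.P2

open Module Gen Subgroup XE
open Cfsg.Agent.ClassicalGeometry.SympBasic Cfsg.Agent.ClassicalGeometry.SympSiegel
  Cfsg.Agent.ClassicalGeometry.SympAutExists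
open scoped commutatorElement

variable {F : Type} [Field F] {m : ℕ}

local notation "W" => (Fin m ⊕ Fin m → F)
local notation "G" => Matrix.symplecticGroup (Fin m) F
local notation "f" => sympForm m F

/-- the transvections with centre `e` -/
def ZT (e : W) : Subgroup G where
  carrier := {g | ∃ c, g = transv e c}
  mul_mem' := by
    rintro _ _ ⟨c, rfl⟩ ⟨d, rfl⟩
    exact ⟨_, transv_mul e c d⟩
  one_mem' := ⟨0, (transv_zero e).symm⟩
  inv_mem' := by
    rintro _ ⟨c, rfl⟩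
    exact ⟨_, transv_inv e c⟩

theorem transv_mem (e : W) (c : F) : transv e c ∈ ZT e := ⟨c, rfl⟩

theorem transv_eq (e : W) (c : F) : transv e c = siegel e 0 (-c) := by rw [siegel_zero_eq_transv, neg_neg]

theorem transv_mul_siegel {e w : W} (h : f e w = 0) (c d : F) : transv e c * siegel e w d = siegel e w (d - c) := by
  rw [transv_eq, siegel_mul (sympForm_zero_right e) h, zero_add, sympForm_zero_left]
  congr 1
  ring

theorem siegel_mul_transv {e w : W} (h : f e w = 0) (c d : F) : siegel e w d * transv e c = siegel e w (d - c) := by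
  rw [transv_eq, siegel_mul h (sympForm_zero_right e), add_zero, sympForm_zero_right]
  congr 1
  ring

theorem comm_Q {e : W} : ∀ q ∈ Q e, ∀ z ∈ ZT e, q * z = z * q := by
  rintro _ ⟨w, d, h, rfl⟩ _ ⟨c, rfl⟩
  rw [transv_mul_siegel h, siegel_mul_transv h]

theorem conj_siegel' {e w w' : W} (h : f e w = 0) (h' : f e w' = 0) (c c' : F) :
    siegel e w c * siegel e w' c' * (siegel e w c)⁻¹ = siegel e w' (c' + 2 * f w w') := by
  rw [mul_inv_eq_iff_eq_mul, siegel_mul h h', siegel_mul h' h, add_comm w, sympForm_swap w' w]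
  congr 1
  ring

theorem comm_siegel {e w w' : W} (h : f e w = 0) (h' : f e w' = 0) (c c' : F) :
    ⁅siegel e w c, siegel e w' c'⁆ = transv e (-(2 * f w w')) := by
  rw [commutatorElement_def, conj_siegel' h h', mul_inv_eq_iff_eq_mul, transv_mul_siegel h']
  congr 1
  ring

theorem exists_perp {e w : W} (he : e ≠ 0) (hw : ∀ a : F, w ≠ a • e) (t : F) : ∃ x, f e x = 0 ∧ f w x = t := by
  by_contra h
  obtain ⟨a, ha⟩ := smul_of_perp he (w := w) fun x hx => by
    by_contra h1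
    refine h ⟨(t * (f w x)⁻¹) • x, by rw [sympForm_smul_right, hx, mul_zero], ?_⟩
    rw [sympForm_smul_right, mul_assoc, inv_mul_cancel₀ h1, mul_one]
  exact hw a ha

theorem not_smul_of_notMem {e w : W} {c : F} (h : siegel e w c ∉ ZT e) (a : F) : w ≠ a • e := by
  rintro rfl
  exact h ⟨_, siegel_smul_self_eq a c⟩

theorem siegel_notMem {e w : W} (he : e ≠ 0) (h : f e w = 0) (hw : ∀ a : F, w ≠ a • e) (c : F) :
    siegel e w c ∉ ZT e := by
  rintro ⟨d, hd⟩
  rw [transv_eq] at hd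
  obtain ⟨a, ha, -⟩ := siegel_eq_siegel he h (sympForm_zero_right e) hd
  exact hw a (by rw [ha, zero_add])

variable [Fintype F]

theorem le_relIndex (hm : 1 ≤ m) {e : W} (he : e ≠ 0) : (Fintype.card F ^ (m - 1)) ^ 2 ≤ (ZT e).relIndex (Q e) := by
  obtain ⟨e', hee⟩ := exists_form_eq_one he
  have h1 : Nat.card (ClassicalGeometry.SympAutExists.W e e') ≤ (ZT e).relIndex (Q e) :=
    card_le_relIndex (fun w : ClassicalGeometry.SympAutExists.W e e' => (⟨siegel e w 0, siegel_mem_Q w.2.1 0⟩ : Q e))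
      fun i j h => by
        obtain ⟨c, hc⟩ := h
        have h2 : f e (-(i : W) + j) = 0 := (-i + j).2.1
        simp only at hc
        rw [siegel_inv i.2.1, siegel_mul (form_neg_eq_zero i.2.1) j.2.1, transv_eq] at hc
        have h3 := (siegel_inj hee h2 (sympForm_zero_right e) (-i + j).2.2 (sympForm_zero_left e') hc).1
        exact Subtype.ext (neg_add_eq_zero.1 h3)
  have h2 : Nat.card W ≤ Nat.card (F × ClassicalGeometry.SympAutExists.W e e' × F) :=
    Nat.card_le_card_of_injective (fun v => (f v e', ⟨prW e e' v, prW_mem hee v⟩, f e v)) fun u v h => by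
      simp only [Prod.mk.injEq, Subtype.mk.injEq] at h
      rw [decomp e e' u, decomp e e' v, h.1, h.2.1, h.2.2]
  rw [Nat.card_prod, Nat.card_prod, Nat.card_fun, Nat.card_sum, Nat.card_eq_fintype_card (α := F), Nat.card_fin] at h2
  refine le_trans ?_ h1
  have h3 : 0 < Fintype.card F := Fintype.card_pos
  refine Nat.le_of_mul_le_mul_left ?_ (Nat.mul_pos h3 h3)
  obtain ⟨n, rfl⟩ := Nat.exists_eq_add_of_le' hm
  rw [Nat.add_sub_cancel]
  calc _ = Fintype.card F ^ (n + 1 + (n + 1)) := by ring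
    _ ≤ _ := h2
    _ = _ := by ring

theorem le_mlt (hm : 1 ≤ m) (h2 : (2 : F) ≠ 0) {e : W} (he : e ≠ 0) {k V : Type*} [Field k] [AddCommGroup V]
    [Module k V] [FiniteDimensional k V] {σ : Representation k G V} {χ : ZT e →* kˣ} {c : F}
    (hχ : χ ⟨_, transv_mem e c⟩ ≠ 1) (h : 0 < mlt σ _ χ) : Fintype.card F ^ (m - 1) ≤ mlt σ _ χ := by
  refine le_of_sq_le (le_relIndex hm he) (relIndex_le_mlt_sq comm_Q ?_ h _ ?_)
  · rintro _ ⟨w, d, h, rfl⟩ _ ⟨w', d', h', rfl⟩
    exact ⟨_, comm_siegel h h' d d'⟩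
  · rintro _ ⟨w, d, h, rfl⟩ ht
    obtain ⟨x, h1, h3⟩ := exists_perp he (not_smul_of_notMem ht) (-(2⁻¹ * c))
    refine ⟨_, siegel_mem_Q h1 0, ⟨_, transv_mem e c⟩, ?_, hχ⟩
    rw [comm_siegel h h1, h3, mul_neg, neg_neg, ← mul_assoc, mul_inv_cancel₀ h2, one_mul]

theorem exists_norm {e : W} (he : e ≠ 0) {a : F} (ha : a ≠ 0) :
    ∃ g ∈ normalizer (ZT e : Set G), ∀ c, g⁻¹ * transv e c * g = transv e (a ^ 2 * c) := by
  obtain ⟨g, -, hg⟩ := exists_transvGroup_mulVec_eq he (smul_ne_zero ha he)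
  have h1 : ∀ c, g * transv e c * g⁻¹ = transv e (a ^ 2 * c) := fun c => by
    rw [conj_transv, ClassicalGeometry.SympSiegel.smul_def, hg, transv_smul_vec]
  refine ⟨g⁻¹, inv_mem (mem_normalizer_fintype ?_), fun c => by rw [inv_inv, h1]⟩
  rintro _ ⟨c, rfl⟩
  exact ⟨_, h1 c⟩

variable {r : ℕ} [Fact r.Prime] [CharP F r]

omit [Fintype F] [Fact r.Prime] in
theorem exp_ZT (e : W) : ∀ g ∈ ZT e, g ^ r = 1 := by
  rintro _ ⟨c, rfl⟩
  exact transv_pow_char r e c

omit [Fintype F] in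
theorem comm_ZT (e : W) : ∀ a ∈ ZT e, ∀ b ∈ ZT e, a * b = b * a := by
  rintro _ ⟨c, rfl⟩ b hb
  exact comm_Q _ (transv_mem_Q e c) b hb

variable {V : Type*} [AddCommGroup V] [Module (ZMod 2) V] [Finite V]
  {σ : Representation (ZMod 2) (Matrix.symplecticGroup (Fin m) F) V}

omit [Fintype F] in
theorem two_ne (hr : r ≠ 2) : (2 : F) ≠ 0 := fun h =>
  hr ((Nat.prime_dvd_prime_iff_eq Fact.out Nat.prime_two).1 ((CharP.cast_eq_zero_iff F r 2).1 (by exact_mod_cast h)))

/-- **the centre of the Heisenberg group** -/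
theorem cod_ZT (hm : 1 ≤ m) (hr : r ≠ 2) {e : W} (he : e ≠ 0) (hσ : σ (transv e 1) ≠ 1) (T : Finset F)
    (hT : ∀ t ∈ T, ∃ a : F, a ≠ 0 ∧ (t = a ^ 2 ∨ t = 2 * a ^ 2)) :
    T.card * Fintype.card F ^ (m - 1) ≤ cod σ (ZT e) := by
  classical
  have h2 : (2 : F) ≠ 0 := two_ne hr
  have hk : (r : ZMod 2) ≠ 0 := cast_ne_zero Fact.out hr
  obtain ⟨χ, h1, h3⟩ := exists_wt (ρ := bc (AlgebraicClosure (ZMod 2)) σ) (R := ZT e) (comm_ZT e)
    (card_ne_zero_closure (card_ne_zero_of_exp Fact.out hk (exp_ZT e))) (r := ⟨_, transv_mem e 1⟩)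
    (XL.bc_ne_one _ hσ)
  have key : ∀ t ∈ T, ∃ ψ : ZT e →* (AlgebraicClosure (ZMod 2))ˣ, 0 < mlt (bc (AlgebraicClosure (ZMod 2)) σ) _ ψ ∧
      ∀ c, ψ ⟨_, transv_mem e c⟩ = χ ⟨_, transv_mem e (t * c)⟩ := fun t ht => by
    obtain ⟨a, ha, h⟩ := hT t ht
    obtain ⟨g, hg, hg'⟩ := exists_norm he ha
    have h4 : ∀ c, tw g hg χ ⟨_, transv_mem e c⟩ = χ ⟨_, transv_mem e (a ^ 2 * c)⟩ := fun c =>
      tw_apply_of_eq hg χ (hg' c).symm
    rcases h with rfl | rfl
    · exact ⟨tw g hg χ, by rwa [mlt_tw], h4⟩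
    · refine ⟨tw g hg χ ^ Fintype.card (ZMod 2), by rwa [mlt_pow_card, mlt_tw], fun c => ?_⟩
      rw [ZMod.card, MonoidHom.pow_apply, h4, ← map_pow]
      congr 1
      refine Subtype.ext ?_
      show transv e _ ^ 2 = transv e _
      rw [transv_pow]
      congr 1
      push_cast
      ring
  choose! ψ hψ hψ' using key
  have hT0 : ∀ t ∈ T, t ≠ 0 := fun t ht => by
    obtain ⟨a, ha, rfl | rfl⟩ := hT t ht
    exacts [pow_ne_zero 2 ha, mul_ne_zero h2 (pow_ne_zero 2 ha)]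
  have h5 : ∀ t ∈ T, ψ t ⟨_, transv_mem e t⁻¹⟩ ≠ 1 := fun t ht => by
    rw [hψ' t ht]
    simpa only [mul_inv_cancel₀ (hT0 t ht)] using h1
  have hinj : Set.InjOn ψ T := fun s hs t ht hst => by
    by_contra h
    have h6 := sub_ne_zero.2 h
    have h7 := (hψ' s hs (s - t)⁻¹).symm.trans (hst ▸ hψ' t ht (s - t)⁻¹)
    refine h1 ?_
    have h8 : (⟨_, transv_mem e (s * (s - t)⁻¹)⟩ : ZT e) = ⟨_, transv_mem e 1⟩ * ⟨_, transv_mem e (t * (s - t)⁻¹)⟩ := by
      refine Subtype.ext ?_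
      show transv e _ = transv e _ * transv e _
      rw [transv_mul]
      congr 1
      field_simp
      ring
    rw [h8, map_mul] at h7
    exact mul_eq_right.1 h7
  rw [← cod_bc (AlgebraicClosure (ZMod 2)), ← Finset.card_image_of_injOn hinj]
  refine card_mul_le_cod le_rfl _ (fun φ hφ h => ?_) fun φ hφ => ?_
  · obtain ⟨t, ht, rfl⟩ := Finset.mem_image.1 hφ
    exact h5 t ht (h _ (transv_mem e _))
  · obtain ⟨t, ht, rfl⟩ := Finset.mem_image.1 hφ
    exact le_mlt hm h2 he (h5 t ht) (hψ t ht)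

/-- the group generated by the centre and one more element -/
def RT (r : ℕ) [Fact r.Prime] [CharP F r] {e w : W} (h : f e w = 0) : Subgroup G where
  carrier := {g | ∃ (n : ℕ) (c : F), g = siegel e ((n : F) • w) c}
  mul_mem' := by
    rintro _ _ ⟨n, c, rfl⟩ ⟨n', c', rfl⟩
    refine ⟨n + n', c + c' + f ((n : F) • w) ((n' : F) • w), ?_⟩
    rw [siegel_mul (by rw [sympForm_smul_right, h, mul_zero]) (by rw [sympForm_smul_right, h, mul_zero]), Nat.cast_add,
      add_smul]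
  one_mem' := ⟨0, 0, by rw [Nat.cast_zero, zero_smul, siegel_zero_zero]⟩
  inv_mem' := by
    rintro _ ⟨n, c, rfl⟩
    refine ⟨(r - 1) * n, -c, ?_⟩
    rw [siegel_inv (by rw [sympForm_smul_right, h, mul_zero]), Nat.cast_mul,
      Nat.cast_sub (Fact.out : r.Prime).one_le, CharP.cast_eq_zero F r, Nat.cast_one, zero_sub, neg_one_mul, neg_smul]

/-- **non-central elements** -/
theorem cod_siegel (hr : r ≠ 2) {e w : W} (he : e ≠ 0) (h : f e w = 0) (hw : ∀ a : F, w ≠ a • e) (c : F) :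
    (r - 1) * cod σ (ZT e) ≤ r * cod σ (zpowers (siegel e w c)) := by
  have h2 : (2 : F) ≠ 0 := two_ne hr
  have hn : ∀ n : ℕ, f e ((n : F) • w) = 0 := fun n => by rw [sympForm_smul_right, h, mul_zero]
  refine avg_coset (R := RT r h) Fact.out (cast_ne_zero Fact.out hr) (lt_of_le_of_ne ?_ fun e' => ?_) ?_ ?_ ?_
  · rintro _ ⟨d, rfl⟩
    exact ⟨0, -d, by rw [Nat.cast_zero, zero_smul, transv_eq]⟩
  · exact siegel_notMem he h hw c (e' ▸ ⟨1, c, by rw [Nat.cast_one, one_smul]⟩)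
  · rintro _ ⟨n, d, rfl⟩ _ ⟨n', d', rfl⟩
    rw [siegel_mul (hn n) (hn n'), siegel_mul (hn n') (hn n), add_comm ((n : F) • w), add_comm d]
    simp only [sympForm_smul_left, sympForm_smul_right, sympForm_self, mul_zero]
  · rintro _ ⟨n, d, rfl⟩
    exact pow_char_eq_one_of_mem_Q (siegel_mem_Q (hn n) d)
  · rintro _ ⟨n, d, rfl⟩ hg
    obtain ⟨x, h1, h3⟩ := exists_perp he (not_smul_of_notMem hg) (2⁻¹ * (n * c - d))
    have h4 : siegel e ((n : F) • w) d = siegel e x 0 * siegel e w c ^ n * (siegel e x 0)⁻¹ := by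
      rw [siegel_pow h, conj_siegel' h1 (hn n), sympForm_swap x, h3]
      congr 1
      field_simp
      ring
    rw [h4, cod_zpowers_conj]
    exact XL.cod_pow_le _ _

end Cfsg.Agent.TwoF.XS.P2
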