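import Cfsg.Agent.TwoF.XS.P2.Heis
import Cfsg.Agent.ClassicalGeometry.SympGamma
import Cfsg.Agent.ClassicalGeometry.SympAutRecog
import Cfsg.Agent.H929.Herm
import Cfsg.Agent.H966.PSpAut

/-!
# TwoF / XS / P2: involutions in `Aut (PSp m F)`, odd characteristic (helper85)
-/

set_option autoImplicit false

namespace Cfsg.Agent.TwoF.XS.P2

open Module Gen Subgroup XE
open Cfsg.Agent.ClassicalGeometry.SympBasic Cfsg.Agent.ClassicalGeometry.SympSiegel
  Cfsg.Agent.ClassicalGeometry.SympAutExists Cfsg.Agent.ClassicalGeometry.SympAutSemi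
  Cfsg.Agent.ClassicalGeometry.SympGamma

variable {F : Type} [Field F] {m : ℕ}

local notation "W" => (Fin m ⊕ Fin m → F)
local notation "G" => Matrix.symplecticGroup (Fin m) F
local notation "f" => sympForm m F

/-- the projection -/
def prH (m : ℕ) (F : Type) [Field F] : Matrix.symplecticGroup (Fin m) F →* PSp m F := QuotientGroup.mk' _

theorem prH_apply (g : G) : prH m F g = pr g := rfl

/-- a bound for the transvection groups -/
def ZB (m : ℕ) (F : Type) [Field F] (n : ℕ) : Prop :=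
  ∀ e : Fin m ⊕ Fin m → F, e ≠ 0 → Lo 2 (((ZT e).map (prH m F)).map MulAut.conj) n

/-- a bound for the Siegel elements -/
def SB (m : ℕ) (F : Type) [Field F] (n : ℕ) : Prop :=
  ∀ (e w : Fin m ⊕ Fin m → F) (c : F), e ≠ 0 → sympForm m F e w = 0 → (∀ a : F, w ≠ a • e) →
    Li 2 (pr (siegel e w c)) n

/-- the automorphism fixes a point -/
def Fix (α : MulAut (PSp m F)) : Prop :=
  ∃ (g : semiSim m F) (e : W) (a : F), Psi m F g = α ∧ e ≠ 0 ∧ g.1 e = a • e

section semi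

variable {g : semiSim m F} {φ : F ≃+* F} {l : F}

theorem semi_zero (g : semiSim m F) : g.1 0 = 0 := by
  obtain ⟨φ, l, -, h⟩ := g.2
  have := h.2.1 0 0
  rwa [zero_smul, map_zero φ, zero_smul] at this

theorem semi_ne_zero (g : semiSim m F) {v : W} (hv : v ≠ 0) : g.1 v ≠ 0 := fun h =>
  hv (g.1.injective (h.trans (semi_zero g).symm))

theorem psi_pr (g : semiSim m F) (A : G) : Psi m F g (pr A) = pr (conjHom m F g A) := Psi_mk g A

theorem psi_eq_one (g : semiSim m F) {c : F} (h : ∀ v, g.1 v = c • v) : Psi m F g = 1 := by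
  ext1 x
  obtain ⟨y, rfl⟩ := QuotientGroup.mk_surjective x
  rw [Psi_mk, MulAut.one_apply]
  congr 1
  apply ClassicalGeometry.SympAutSemi.rho_injective
  rw [rho_conjHom]
  ext1 v
  rw [Equiv.Perm.mul_apply, Equiv.Perm.mul_apply, h, rho_apply, ← Matrix.mulVec_smul, ← h, perm_apply_inv_self,
    rho_apply]

/-- the lift of an inner automorphism -/
def lf (A : G) : semiSim m F := ⟨rho m F A, _, 1, one_ne_zero, isSemi_rho A⟩

theorem lf_apply (A : G) (v : W) : (lf A).1 v = A • v := rfl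

theorem psi_lf (A : G) : Psi m F (lf A) = MulAut.conj (pr A) := H966.PSpAut.Psi_rho A _

theorem psi_eq_conj (g : semiSim m F) {A : G} {c : F} (h : ∀ v, A • v = c • g.1 v) :
    Psi m F g = MulAut.conj (pr A) := by
  rw [← psi_lf, eq_comm, ← mul_inv_eq_one, ← map_inv, ← map_mul]
  refine psi_eq_one _ (c := c) fun v => ?_
  show A • g.1⁻¹ v = _
  rw [h, perm_apply_inv_self]

theorem exists_sp (hg : IsSemi g.1 φ l) (hφ : ∀ a, φ a = a) {c : F} (hc : c * c * l = 1) :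
    ∃ A : G, ∀ v, A • v = c • g.1 v := by
  have h0 : c ≠ 0 := fun e => by simp [e] at hc
  obtain ⟨A, hA⟩ := exists_rho_eq (m := m) (scal m F (Units.mk0 c h0) * g.1)
    (fun u v => by simp only [Equiv.Perm.mul_apply, scal_apply, hg.1, smul_add])
    (fun a v => by simp only [Equiv.Perm.mul_apply, scal_apply, hg.2.1, hφ, smul_comm a])
    (fun u v => by
      simp only [Equiv.Perm.mul_apply, scal_apply, Units.val_mk0, sympForm_smul_left, sympForm_smul_right, hg.2.2, hφ]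
      linear_combination (f u v) * hc)
  exact ⟨A, fun v => congrArg (fun x : Equiv.Perm W => x v) hA⟩

theorem exists_sq (hm : 1 ≤ m) (h : Psi m F g ^ 2 = 1) : ∃ c : F, c ≠ 0 ∧ ∀ v, g.1 (g.1 v) = c • v := by
  obtain ⟨c, hc⟩ := exists_scal_of_Psi_eq_one hm (g * g) (by rw [map_mul, ← pow_two, h])
  exact ⟨c, c.ne_zero, fun v => congrArg (fun x : Equiv.Perm W => x v) hc⟩

theorem exists_eig (hg : IsSemi g.1 φ l) {c s : F} (h : ∀ v, g.1 (g.1 v) = c • v) (hs : s * φ s = c)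
    (h1 : Psi m F g ≠ 1) : ∃ e, e ≠ 0 ∧ g.1 e = φ s • e := by
  by_contra h2
  refine h1 (psi_eq_one g (c := -s) fun v => ?_)
  by_contra h3
  refine h2 ⟨s • v + g.1 v, fun e => h3 ?_, ?_⟩
  · rw [neg_smul]
    exact eq_neg_of_add_eq_zero_right e
  · rw [hg.1, hg.2.1, h, smul_add, smul_smul, mul_comm, hs, add_comm]

theorem fix_of_norm (hg : IsSemi g.1 φ l) {c s : F} (h : ∀ v, g.1 (g.1 v) = c • v) (hs : s * φ s = c)
    (h1 : Psi m F g ≠ 1) : Fix (Psi m F g) := by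
  obtain ⟨e, he, h2⟩ := exists_eig hg h hs h1
  exact ⟨g, e, _, rfl, he, h2⟩

/-- an involution that fixes no point -/
theorem not_fix [Finite F] (hm : 1 ≤ m) (h1 : Psi m F g ≠ 1) (h2 : Psi m F g ^ 2 = 1) (h : ¬ Fix (Psi m F g)) :
    (∀ (a : F) v, g.1 (a • v) = a • g.1 v) ∧ ∃ c : F, ¬ IsSquare c ∧ ∀ v, g.1 (g.1 v) = c • v := by
  obtain ⟨φ, l, -, hg⟩ := g.2
  obtain ⟨c, -, hc⟩ := exists_sq hm h2
  have he : ClassicalGeometry.SympAutCentral.E F (⟨0, hm⟩ : Fin m) ≠ 0 := ClassicalGeometry.SympAutCentral.E_ne_zero _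
  have hφ : φ = RingEquiv.refl F := by
    by_contra h3
    obtain ⟨s, hs⟩ := H929.exists_norm (σ := φ) (fun a => by
      have h4 := hc (a • ClassicalGeometry.SympAutCentral.E F (⟨0, hm⟩ : Fin m))
      rw [hg.2.1, hg.2.1, smul_comm, ← hc] at h4
      exact smul_right_cancel_vec (semi_ne_zero g (semi_ne_zero g he)) h4) h3 c (by
      have h4 := congrArg g.1 (hc (ClassicalGeometry.SympAutCentral.E F (⟨0, hm⟩ : Fin m)))
      rw [hc, hg.2.1] at h4
      exact (smul_right_cancel_vec (semi_ne_zero g he) h4).symm)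
    exact h (fix_of_norm hg hc hs h1)
  subst hφ
  refine ⟨hg.2.1, c, ?_, hc⟩
  rintro ⟨s, rfl⟩
  exact h (fix_of_norm hg hc rfl h1)

theorem isSquare_mul [Fintype F] {a b : F} (ha : ¬ IsSquare a) (hb : ¬ IsSquare b) : IsSquare (a * b) := by
  classical
  have h0 : a * b ≠ 0 := mul_ne_zero (fun e => ha (e ▸ IsSquare.zero)) fun e => hb (e ▸ IsSquare.zero)
  rw [← quadraticChar_one_iff_isSquare h0, map_mul, quadraticChar_neg_one_iff_not_isSquare.2 ha,
    quadraticChar_neg_one_iff_not_isSquare.2 hb]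
  rfl

/-- a fours group without fixed points -/
theorem pair [Fintype F] (hm : 1 ≤ m) {E : Subgroup (MulAut (PSp m F))} (hE : ∀ α ∈ E, α ^ 2 = 1)
    (hF : ∀ α ∈ E, α ≠ 1 → ¬ Fix α) {g h : semiSim m F} (hg : Psi m F g ∈ E) (hh : Psi m F h ∈ E)
    (h1 : Psi m F g ≠ 1) (h2 : Psi m F h ≠ 1) (h3 : Psi m F (g * h) ≠ 1) :
    ¬ IsSquare (-1 : F) ∧ ∀ v, g.1 (h.1 v) = -h.1 (g.1 v) := by
  have hgh : Psi m F (g * h) ∈ E := by
    rw [map_mul]
    exact mul_mem hg hh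
  obtain ⟨a1, c1, b1, d1⟩ := not_fix hm h1 (hE _ hg) (hF _ hg h1)
  obtain ⟨a2, c2, b2, d2⟩ := not_fix hm h2 (hE _ hh) (hF _ hh h2)
  obtain ⟨-, c3, b3, d3⟩ := not_fix hm h3 (hE _ hgh) (hF _ hgh h3)
  have d3' : ∀ v, g.1 (h.1 (g.1 (h.1 v))) = c3 • v := d3
  have h4 : ∀ u, (c1 * c2) • h.1 (g.1 u) = c3 • g.1 (h.1 u) := fun u => by
    have := congrArg g.1 (d3' (h.1 u))
    rwa [d1, d2, a1, a2, a1, smul_smul] at this
  have h0 : c1 ≠ 0 := fun e => b1 (e ▸ IsSquare.zero)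
  have h5 : (c1 * c2) ^ 2 = c3 ^ 2 := by
    have he := semi_ne_zero h (ClassicalGeometry.SympAutCentral.E_ne_zero (F := F) (⟨0, hm⟩ : Fin m))
    have h6 := congrArg ((c1 * c2) • ·) (h4 (g.1 (ClassicalGeometry.SympAutCentral.E F (⟨0, hm⟩ : Fin m))))
    rw [d1, a2, smul_comm _ c3, ← a1 (c1 * c2), h4, a1, d1, smul_smul, smul_smul, smul_smul, smul_smul] at h6
    have h7 := smul_right_cancel_vec he h6
    refine mul_right_cancel₀ h0 ?_
    linear_combination h7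
  have h6 := isSquare_mul b1 b2
  rcases sq_eq_sq_iff_eq_or_eq_neg.1 h5 with h7 | h7
  · exact (b3 (h7 ▸ h6)).elim
  · have h8 : c3 ≠ 0 := fun e => b3 (e ▸ IsSquare.zero)
    refine ⟨fun h9 => b3 ?_, fun v => ?_⟩
    · have := h9.mul h6
      rwa [h7, neg_one_mul, neg_neg] at this
    · have := h4 v
      rw [h7, neg_smul, ← smul_neg] at this
      exact (smul_right_injective _ h8 this).symm

theorem exists_psi [Finite F] (hm : 2 ≤ m) (h2 : (2 : F) ≠ 0) (α : MulAut (PSp m F)) : ∃ g, Psi m F g = α :=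
  exists_semi hm α (ClassicalGeometry.SympAutRecog.recog_odd hm h2 α)

theorem exists_notMem {H : Type*} [Group H] {E : Subgroup H} (s : Finset H) (h : s.card < Nat.card E) :
    ∃ a ∈ E, a ∉ s := by
  by_contra h1
  have h2 : (E : Set H) ⊆ s := fun a ha => by
    by_contra h3
    exact h1 ⟨a, ha, h3⟩
  have h3 := Set.ncard_le_ncard h2 s.finite_toSet
  rw [Set.ncard_coe_finset] at h3
  exact h.not_ge h3

theorem exists_fix_four [Fintype F] (hm : 2 ≤ m) (h2 : (2 : F) ≠ 0) (hs : IsSquare (-1 : F))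
    {E : Subgroup (MulAut (PSp m F))} (hE : ∀ α ∈ E, α ^ 2 = 1) (hc : 2 < Nat.card E) : ∃ α ∈ E, α ≠ 1 ∧ Fix α := by
  classical
  by_contra h
  have hF : ∀ α ∈ E, α ≠ 1 → ¬ Fix α := fun α h1 h3 h4 => h ⟨α, h1, h3, h4⟩
  obtain ⟨a, ha, a1⟩ := exists_notMem (E := E) {1} (by rw [Finset.card_singleton]; omega)
  obtain ⟨b, hb, b1⟩ := exists_notMem (E := E) {1, a⁻¹} (Finset.card_le_two.trans_lt hc)
  obtain ⟨g, rfl⟩ := exists_psi hm h2 a
  obtain ⟨k, rfl⟩ := exists_psi hm h2 b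
  simp only [Finset.mem_insert, Finset.mem_singleton, not_or] at a1 b1
  exact (pair (by omega) hE hF ha hb a1 b1.1 fun e => b1.2 (eq_inv_of_mul_eq_one_right (by rwa [← map_mul]))).1 hs

theorem exists_fix_eight [Fintype F] (hm : 2 ≤ m) (h2 : (2 : F) ≠ 0) {E : Subgroup (MulAut (PSp m F))}
    (hE : ∀ α ∈ E, α ^ 2 = 1) (hc : 4 < Nat.card E) : ∃ α ∈ E, α ≠ 1 ∧ Fix α := by
  classical
  by_contra h
  have hF : ∀ α ∈ E, α ≠ 1 → ¬ Fix α := fun α h1 h3 h4 => h ⟨α, h1, h3, h4⟩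
  obtain ⟨a, ha, a1⟩ := exists_notMem (E := E) {1} (by rw [Finset.card_singleton]; omega)
  obtain ⟨b, hb, b1⟩ := exists_notMem (E := E) {1, a⁻¹} (Finset.card_le_two.trans_lt (by omega))
  obtain ⟨c, hc', c1⟩ := exists_notMem (E := E) {1, a⁻¹, b⁻¹, (a * b)⁻¹} (Finset.card_le_four.trans_lt hc)
  obtain ⟨g, rfl⟩ := exists_psi hm h2 a
  obtain ⟨k, rfl⟩ := exists_psi hm h2 b
  obtain ⟨j, rfl⟩ := exists_psi hm h2 c
  simp only [Finset.mem_insert, Finset.mem_singleton, not_or] at a1 b1 c1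
  have h3 := (pair (by omega) hE hF ha hb a1 b1.1 fun e =>
    b1.2 (eq_inv_of_mul_eq_one_right (by rwa [← map_mul]))).2
  have h4 := (pair (by omega) hE hF ha hc' a1 c1.1 fun e =>
    c1.2.1 (eq_inv_of_mul_eq_one_right (by rwa [← map_mul]))).2
  have h5 := (pair (h := k * j) (by omega) hE hF ha (by rw [map_mul]; exact mul_mem hb hc') a1
    (fun e => c1.2.2.1 (eq_inv_of_mul_eq_one_right (by rwa [← map_mul]))) fun e =>
      c1.2.2.2 (eq_inv_of_mul_eq_one_right (by rwa [← map_mul, ← map_mul, mul_assoc]))).2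
  have he := ClassicalGeometry.SympAutCentral.E_ne_zero (F := F) (⟨0, by omega⟩ : Fin m)
  have h6 : g.1 (k.1 (j.1 _)) = -k.1 (j.1 (g.1 _)) := h5 (ClassicalGeometry.SympAutCentral.E F (⟨0, by omega⟩ : Fin m))
  have h7 := (not_fix (by omega) b1.1 (hE _ hb) (hF _ hb b1.1)).1
  rw [h3, h4, ← neg_one_smul F (j.1 _), h7, neg_one_smul, neg_neg, ← add_eq_zero_iff_eq_neg, ← two_smul F,
    smul_eq_zero] at h6
  exact h6.elim h2 (semi_ne_zero k (semi_ne_zero j (semi_ne_zero g he)))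

end semi

variable [Fintype F] {r : ℕ} [Fact r.Prime] [CharP F r]

omit [Fintype F] in
theorem rep_ne (hm : 1 ≤ m) (r : ℕ) [Fact r.Prime] [CharP F r] {V : Type} [AddCommGroup V] [Module (ZMod 2) V]
    {σ : Representation (ZMod 2) (PSp m F) V} (hσ : Function.Injective σ) {e : W} (he : e ≠ 0) :
    (σ.comp (prH m F)) (transv e 1) ≠ 1 := fun h =>
  pr_transv_ne_one r hm he one_ne_zero (hσ (h.trans (map_one σ).symm))

theorem zb (hm : 1 ≤ m) (hr : r ≠ 2) (hz : Zc 2 (PSp m F) 1) (T : Finset F)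
    (hT : ∀ t ∈ T, ∃ a : F, a ≠ 0 ∧ (t = a ^ 2 ∨ t = 2 * a ^ 2)) : ZB m F (T.card * Fintype.card F ^ (m - 1)) :=
  fun _ he => lo_of_rep hz _ fun _ _ _ _ _ hσ => cod_ZT hm hr he (rep_ne hm r hσ he) T hT

theorem sb (hm : 1 ≤ m) (hr : r ≠ 2) (hz : Zc 2 (PSp m F) 1) (T : Finset F)
    (hT : ∀ t ∈ T, ∃ a : F, a ≠ 0 ∧ (t = a ^ 2 ∨ t = 2 * a ^ 2)) {n : ℕ}
    (hn : r * n ≤ (r - 1) * (T.card * Fintype.card F ^ (m - 1))) : SB m F n := fun _ _ c he h hw =>
  li_of_rep hz (prH m F) fun _ _ _ _ _ hσ => Nat.le_of_mul_le_mul_left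
    ((hn.trans (Nat.mul_le_mul_left _ (cod_ZT hm hr he (rep_ne hm r hσ he) T hT))).trans (cod_siegel hr he h hw c))
      (Fact.out : r.Prime).pos

/-- an involution that fixes a point -/
theorem le_of_fix (hm : 2 ≤ m) (hr : r ≠ 2) {n c : ℕ} (hS : SB m F n) (hc : 2 * (c - 1) < n) {α : MulAut (PSp m F)}
    (h1 : α ≠ 1) (h2 : α ^ 2 = 1) (h : Fix α) : Le 2 α c := by
  obtain ⟨g, e, a, rfl, he, hge⟩ := h
  obtain ⟨φ, l, hl, hg⟩ := g.2
  have ha : a ≠ 0 := fun e' => semi_ne_zero g he (by rw [hge, e', zero_smul])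
  have hp : ∀ w, f e w = 0 → f e (g.1 w) = 0 := fun w hw => by
    have := hg.2.2 e w
    rw [hge, hw, map_zero, mul_zero, sympForm_smul_left] at this
    exact (mul_eq_zero.1 this).resolve_left ha
  by_cases h : ∃ w, f e w = 0 ∧ ∀ b : F, (a * l⁻¹) • g.1 w + -w ≠ b • e
  · obtain ⟨w, hw, hw'⟩ := h
    have h3 : f e (l⁻¹ • g.1 w) = 0 := by rw [sympForm_smul_right, hp w hw, mul_zero]
    have h4 : f e ((a * l⁻¹) • g.1 w) = 0 := by rw [sympForm_smul_right, hp w hw, mul_zero]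
    refine Le.comm (pr (siegel e w 0)) ?_ hc
    rw [psi_pr, conjHom_siegel g hl hg hw, hge, siegel_smul_vec h3, smul_smul, ← pr_inv, ← pr_mul, siegel_inv hw,
      siegel_mul h4 (form_neg_eq_zero hw)]
    exact hS _ _ _ he (by rw [sympForm_add_right, h4, form_neg_eq_zero hw, add_zero]) hw'
  exfalso
  have h3 : ∀ w, f e w = 0 → ∃ b : F, (a * l⁻¹) • g.1 w = w + b • e := fun w hw => by
    by_contra h4
    exact h ⟨w, hw, fun b hb => h4 ⟨b, by rw [← hb]; abel⟩⟩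
  obtain ⟨e', hee⟩ := exists_form_eq_one he
  obtain ⟨x, hx, hx1, hx2⟩ := ClassicalGeometry.SympAutCentral.exists_perp_pair hm e e'
  obtain ⟨y, hy1, hy2⟩ := exists_perp he (w := x) (fun b hb => hx (by
    rw [hb, sympForm_smul_right, sympForm_swap, hee, mul_neg, mul_one, neg_eq_zero] at hx2
    rw [hb, hx2, zero_smul])) 1
  obtain ⟨b1, hb1⟩ := h3 x hx1
  obtain ⟨b2, hb2⟩ := h3 y hy1
  have hφ : ∀ t, φ t = t := fun t => by
    obtain ⟨b, hb⟩ := h3 (t • x) (by rw [sympForm_smul_right, hx1, mul_zero])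
    rw [hg.2.1, smul_comm, hb1] at hb
    have := congrArg (f · y) hb
    simpa only [sympForm_add_left, sympForm_smul_left, hy1, hy2, mul_zero, add_zero, mul_one] using this
  have h4 : a * l⁻¹ * (a * l⁻¹) * l = 1 := by
    have h5 : f ((a * l⁻¹) • g.1 x) ((a * l⁻¹) • g.1 y) = 1 := by
      rw [hb1, hb2]
      simp only [sympForm_add_left, sympForm_add_right, sympForm_smul_left, sympForm_smul_right, hy1, hy2,
        sympForm_self, form_eq_zero_comm.1 hx1, mul_zero, add_zero]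
    rw [sympForm_smul_left, sympForm_smul_right, hg.2.2, hy2, map_one, mul_one, ← mul_assoc] at h5
    exact h5
  obtain ⟨A, hA⟩ := exists_sp hg hφ h4
  have h5 : A ∈ Q e := (mem_Q_iff he).2 ⟨by
    rw [hA, hge, smul_smul, show a * l⁻¹ * a = 1 by rw [← h4]; field_simp, one_smul], fun v hv => by
      rw [hA]
      exact h3 v hv⟩
  have h6 : Psi m F g ^ r = 1 := by
    rw [psi_eq_conj g hA, ← map_pow, ← pr_pow, pow_char_eq_one_of_mem_Q h5, pr_one, map_one]
  obtain ⟨j, hj⟩ := (Fact.out : r.Prime).odd_of_ne_two hr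
  rw [hj, pow_succ, pow_mul, h2, one_pow, one_mul] at h6
  exact h1 h6

omit [Fintype F] in
theorem transv_add_mul {a u : W} (h : f u a = 0) (c : F) :
    transv (a + u) c * transv a (-c) = siegel u (-c • a) (-c) := by
  refine ext_smul fun v => ?_
  have h' := form_eq_zero_comm.1 h
  rw [mul_smul, transv_smul, transv_smul, siegel_smul (by rw [sympForm_smul_right, h, mul_zero])]
  simp only [sympForm_add_left, sympForm_add_right, sympForm_smul_left, sympForm_self, h', mul_zero, add_zero]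
  rw [sympForm_swap a v, sympForm_swap u v]
  module

/-- any involution -/
theorem le_of_any (hm : 2 ≤ m) (hr : r ≠ 2) {n c : ℕ} (hS : SB m F n) (hc : 4 * (c - 1) < n) {α : MulAut (PSp m F)}
    (h1 : α ≠ 1) (h2 : α ^ 2 = 1) : Le 2 α c := by
  by_cases h : Fix α
  · exact le_of_fix hm hr hS (by omega) h1 h2 h
  obtain ⟨g, rfl⟩ := exists_psi hm (two_ne hr) α
  obtain ⟨φ, l, hl, hg⟩ := g.2
  obtain ⟨v, hv⟩ : ∃ v : W, v ≠ 0 := ⟨_, ClassicalGeometry.SympAutCentral.E_ne_zero (F := F) (⟨0, by omega⟩ : Fin m)⟩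
  have h3 : ∀ a : F, g.1 v ≠ a • v := fun a ha => h ⟨g, v, a, rfl, hv, ha⟩
  obtain ⟨x, u, hu, hx1, hx2, hua, hua'⟩ : ∃ (x : G) (u : W), u ≠ 0 ∧ x • v = v ∧ x • g.1 v = g.1 v + u ∧
      f u (g.1 v) = 0 ∧ ∀ a : F, g.1 v ≠ a • u := by
    by_cases h4 : f v (g.1 v) = 0
    · obtain ⟨w, hw1, hw2⟩ := exists_perp hv h3 (-1)
      refine ⟨siegel v w 0, v, hv, smul_siegel_self hw1 0, ?_, h4, h3⟩
      rw [siegel_smul hw1, h4, zero_smul, add_zero, sympForm_swap, hw2, neg_neg, one_smul]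
    · obtain ⟨u, hu, hu1, hu2⟩ := ClassicalGeometry.SympAutCentral.exists_perp_pair hm v (g.1 v)
      have h5 : f v ((f v (g.1 v))⁻¹ • u) = 0 := by rw [sympForm_smul_right, hu1, mul_zero]
      refine ⟨siegel v ((f v (g.1 v))⁻¹ • u) 0, u, hu, smul_siegel_self h5 0, ?_, form_eq_zero_comm.1 hu2, fun a ha => ?_⟩
      · rw [siegel_smul h5, sympForm_smul_left, form_eq_zero_comm.1 hu2, mul_zero, zero_smul, add_zero,
          add_zero, smul_smul, mul_inv_cancel₀ h4, one_smul]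
      · exact h4 (by rw [ha, sympForm_smul_right, hu1, mul_zero])
  refine Le.comm (pr (transv v 1)) (n := 2 * (c - 1) + 1) (Le.comm (pr x) (n := n) ?_ (by omega)) (by omega)
  have h5 := (hS u (-l⁻¹ • g.1 v) (-l⁻¹) hu (by rw [sympForm_smul_right, hua, mul_zero]) fun a ha =>
    hua' (-l * a) (by rw [mul_smul, ← ha, smul_smul, neg_mul_neg, mul_inv_cancel₀ hl, one_smul])).inv
  rw [← transv_add_mul hua, ← hx2, ← conj_transv] at h5
  have h6 : x * transv v 1 * x⁻¹ = transv v 1 := by rw [conj_transv, hx1]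
  rw [psi_pr, conjHom_transv g hl hg, map_one, one_mul, MulAut.conj_apply]
  convert h5 using 1
  simp only [← pr_inv, ← pr_mul]
  congr 1
  rw [← transv_inv]
  calc _ = transv (g.1 v) l⁻¹ * (transv v 1)⁻¹ * (x * transv v 1 * x⁻¹) * x * (transv (g.1 v) l⁻¹)⁻¹ * x⁻¹ := by group
    _ = _ := by rw [h6]; group

end Cfsg.Agent.TwoF.XS.P2
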